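import Mathlib.AlgebraicGeometry.Morphisms.QuasiCompact
import Mathlib.RingTheory.RingHom.EssFiniteType

/-!
Morphisms locally essentially of finite type: independence of the affine cover, composition.
-/

set_option autoImplicit false

universe u

open AlgebraicGeometry CategoryTheory

namespace Groth.W4c2

variable {X Y Z : Scheme.{u}}

/-- The point `x` has an affine neighbourhood essentially of finite type over `U`. -/
def EFTAt (f : X ⟶ Y) (U : Y.affineOpens) (x : X) : Prop :=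
  ∃ V : X.affineOpens, x ∈ (V : X.Opens) ∧
    ∃ e : (V : X.Opens) ≤ f ⁻¹ᵁ (U : Y.Opens), (f.appLE (U : Y.Opens) V e).hom.EssFiniteType

theorem exists_cover_iff (f : X ⟶ Y) (U : Y.affineOpens) :
    (∃ T : Set X.affineOpens, (⋃ V ∈ T, ((V : X.Opens) : Set ↥X)) = ((f ⁻¹ᵁ (U : Y.Opens)) : Set ↥X) ∧
        ∀ V ∈ T, ∃ e : (V : X.Opens) ≤ f ⁻¹ᵁ (U : Y.Opens), (f.appLE (U : Y.Opens) (V : X.Opens) e).hom.EssFiniteType) ↔
    ∀ x ∈ f ⁻¹ᵁ (U : Y.Opens), EFTAt f U x := by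
  constructor
  · rintro ⟨T, hT, hT'⟩ x hx
    obtain ⟨V, hV, hxV⟩ := Set.mem_iUnion₂.1 (hT.symm ▸ hx : x ∈ ⋃ V ∈ T, ((V : X.Opens) : Set ↥X))
    exact ⟨V, hxV, hT' V hV⟩
  · intro h
    refine ⟨{V | ∃ e : (V : X.Opens) ≤ f ⁻¹ᵁ (U : Y.Opens),
      (f.appLE (U : Y.Opens) (V : X.Opens) e).hom.EssFiniteType},
      Set.Subset.antisymm ?_ (fun x hx => ?_), fun V hV => hV⟩
    · exact Set.iUnion₂_subset fun V hV => hV.1
    · obtain ⟨V, hxV, hV⟩ := h x hx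
      exact Set.mem_biUnion hV hxV

theorem essFT_res {U : X.Opens} (hU : IsAffineOpen U) (a : Γ(X, U)) :
    (X.presheaf.map (homOfLE (X.basicOpen_le a)).op).hom.EssFiniteType :=
  letI := hU.isLocalization_basicOpen a
  RingHom.essFiniteType_algebraMap.2
    (Algebra.EssFiniteType.of_isLocalization Γ(X, X.basicOpen a) (Submonoid.powers a))

theorem eftAt_transfer (f : X ⟶ Y) {U U' : Y.affineOpens} {x : X} (hx : x ∈ f ⁻¹ᵁ (U : Y.Opens))
    (h : EFTAt f U' x) : EFTAt f U x := by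
  obtain ⟨V, hxV, e, hV⟩ := h
  obtain ⟨a, b, hab, hfx⟩ :=
    exists_basicOpen_le_affine_inter U.2 U'.2 (f x) ⟨hx, e hxV⟩
  let W : X.Opens := X.basicOpen (f.appLE U' V e b)
  have hW : W ≤ f ⁻¹ᵁ Y.basicOpen b := by
    rw [show W = _ from Scheme.basicOpen_appLE f V U' e b]
    exact inf_le_right
  have hWU : W ≤ f ⁻¹ᵁ (U : Y.Opens) :=
    hW.trans (f.preimage_mono (hab.symm.le.trans (Y.basicOpen_le a)))
  refine ⟨⟨W, V.2.basicOpen _⟩, ?_, hWU, ?_⟩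
  · show x ∈ W
    rw [show W = _ from Scheme.basicOpen_appLE f V U' e b]
    exact ⟨hxV, show f x ∈ Y.basicOpen b by rw [← hab]; exact hfx⟩
  · have h1 : (f.appLE U' W (hW.trans (f.preimage_mono (Y.basicOpen_le b)))).hom.EssFiniteType := by
      rw [← f.appLE_map e (homOfLE (X.basicOpen_le (f.appLE U' V e b))).op, CommRingCat.hom_comp]
      exact hV.comp (essFT_res V.2 _)
    have h2 : (f.appLE (Y.basicOpen b) W hW).hom.EssFiniteType := by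
      refine RingHom.EssFiniteType.of_comp (Y.presheaf.map (homOfLE (Y.basicOpen_le b)).op).hom ?_
      rw [← CommRingCat.hom_comp, f.map_appLE]
      exact h1
    have hW' : W ≤ f ⁻¹ᵁ Y.basicOpen a := hab.symm ▸ hW
    have h3 : (f.appLE (Y.basicOpen a) W hW').hom.EssFiniteType := by
      have : ∀ (D D' : Y.Opens) (_ : D = D') (h : W ≤ f ⁻¹ᵁ D) (h' : W ≤ f ⁻¹ᵁ D'),
          (f.appLE D' W h').hom.EssFiniteType → (f.appLE D W h).hom.EssFiniteType := by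
        rintro D _ rfl h h' hh; exact hh
      exact this _ _ hab hW' hW h2
    rw [← f.map_appLE hW' (homOfLE (Y.basicOpen_le a)).op, CommRingCat.hom_comp]
    exact (essFT_res U.2 a).comp h3

theorem eftAt_of_cover (f : X ⟶ Y) (S : Set Y.affineOpens)
    (hS : (⋃ U ∈ S, ((U : Y.Opens) : Set ↥Y)) = Set.univ)
    (h : ∀ U ∈ S, ∀ x ∈ f ⁻¹ᵁ (U : Y.Opens), EFTAt f U x)
    (U : Y.affineOpens) (x : X) (hx : x ∈ f ⁻¹ᵁ (U : Y.Opens)) : EFTAt f U x := by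
  obtain ⟨U', hU', hxU'⟩ := Set.mem_iUnion₂.1
    (hS.symm ▸ Set.mem_univ (f x) : f x ∈ ⋃ U ∈ S, ((U : Y.Opens) : Set ↥Y))
  exact eftAt_transfer f hx (h U' hU' x hxU')

theorem eftAt_comp (f : X ⟶ Y) (g : Y ⟶ Z)
    (hf : ∀ U : Y.affineOpens, ∀ x ∈ f ⁻¹ᵁ (U : Y.Opens), EFTAt f U x)
    (hg : ∀ U : Z.affineOpens, ∀ x ∈ g ⁻¹ᵁ (U : Z.Opens), EFTAt g U x)
    (U : Z.affineOpens) (x : X) (hx : x ∈ (f ≫ g) ⁻¹ᵁ (U : Z.Opens)) : EFTAt (f ≫ g) U x := by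
  obtain ⟨V, hfxV, e₁, hV⟩ := hg U (f x) hx
  obtain ⟨W, hxW, e₂, hW⟩ := hf V x hfxV
  refine ⟨W, hxW, e₂.trans (f.preimage_mono e₁), ?_⟩
  rw [← Scheme.Hom.appLE_comp_appLE f g _ _ _ e₁ e₂, CommRingCat.hom_comp]
  exact hV.comp hW

end Groth.W4c2
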